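import Cfsg.Agent.Lib.U3Recog.Main

/-!
# From root data of a centraliser to `PSU₃(q)` (owner: helper40)

* `Root` : elements `u c`, `h α`, `w` satisfying the relations of the unitary group of a plane,
  where `w` stands for `[[0, s], [-1 / s, 0]]`
* `Root.exists_pi` : they are the images under a homomorphism on `U2`
* `Root.iso` : if their group is the centraliser of `h (-1)` and the order is right, `G` is `PSU₃(q)`
-/

set_option autoImplicit false
set_option linter.unusedSectionVars false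

namespace Cfsg.Agent.OddUnitary

open Subgroup Cfsg.Agent.U3Recog Cfsg.Agent.Unitary

/-- Root elements, a torus and a swap with the relations of `U₂(q)`. -/
structure Root (G : Type*) [Group G] [Finite G] (F : Type*) [Field F] [Fintype F] (q : ℕ) where
  hF : Fintype.card F = q ^ 2
  hodd : Odd q
  s : F
  s_ne : s ≠ 0
  s_skew : s + s ^ q = 0
  u : F → G
  u_add : ∀ c c' : F, c + c ^ q = 0 → c' + c' ^ q = 0 → u (c + c') = u c * u c'
  h : Fˣ →* G
  h_conj : ∀ (α : Fˣ) (c : F), c + c ^ q = 0 → h α * u c * (h α)⁻¹ = u ((α : F) ^ (q + 1) * c)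
  w : G
  w_h : ∀ α : Fˣ, w * h α * w⁻¹ = h ((α ^ q)⁻¹)
  w_sq : w * w = h (-1)
  rel : ∀ c : F, c + c ^ q = 0 → ∀ hc : c ≠ 0,
    w * u c * w⁻¹ =
      u (-(s ^ 2 / c)) * h (Units.mk0 (s / c) (div_ne_zero s_ne hc)) * w * u (-(s ^ 2 / c))
  ker : ∀ (c : F) (α : Fˣ), c + c ^ q = 0 → u c * h α = 1 → c = 0 ∧ α ^ (q + 1) = 1
  cell : ∀ (c c' : F) (α : Fˣ), c + c ^ q = 0 → c' + c' ^ q = 0 → u c * w * u c' * h α ≠ 1
  ker_odd : Odd (Nat.card h.ker)

variable {G : Type*} [Group G] [Finite G] {F : Type*} [Field F] [Fintype F] {q : ℕ}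

namespace Root

variable (R : Root G F q)
include R

/-- The group the root data generate. -/
def gens : Subgroup G :=
  closure ({x | ∃ c : F, c + c ^ q = 0 ∧ x = R.u c} ∪ (R.h.range : Set G) ∪ {R.w})

/-- The swap of determinant one in the model. -/
noncomputable def wn2 : U2 F q := wn R.hF * dd R.hF (Units.mk0 R.s R.s_ne)⁻¹

theorem wn2_entries : e00 R.wn2 = 0 ∧ e01 R.wn2 = R.s ∧ e10 R.wn2 = -R.s⁻¹ ∧ e11 R.wn2 = 0 := by
  obtain ⟨a, b, c, d⟩ := dd_entries R.hF (q := q) (Units.mk0 R.s R.s_ne)⁻¹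
  have hs : R.s ^ q = -R.s := by linear_combination R.s_skew
  unfold wn2
  generalize dd R.hF (Units.mk0 R.s R.s_ne)⁻¹ = D at a b c d ⊢
  simp [a, b, c, d, inv_pow, hs]

theorem skew_smul {β c : F} (hc : c + c ^ q = 0) :
    β ^ (q + 1) * c + (β ^ (q + 1) * c) ^ q = 0 := by
  rw [mul_pow, pow_q_succ_fixed R.hF, ← mul_add, hc, mul_zero]

theorem skew_aa {c : F} (hc : c + c ^ q = 0) :
    -(R.s ^ 2 / c) + (-(R.s ^ 2 / c)) ^ q = 0 := by
  have hs : R.s ^ q = -R.s := by linear_combination R.s_skew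
  have hc' : c ^ q = -c := by linear_combination hc
  rw [neg_pow_q R.hF, div_pow, ← pow_mul, mul_comm 2 q, pow_mul, hs, hc']
  ring

/-- The pair of a root element. -/
noncomputable def up (c : F) (hc : c + c ^ q = 0) : U2 F q × G := (uu R.hF c hc, R.u c)

/-- The pair of a torus element. -/
noncomputable def hp : Fˣ →* U2 F q × G := (dd R.hF).prod R.h

/-- The pair of the swap. -/
noncomputable def wp : U2 F q × G := (R.wn2, R.w)

theorem up_congr {c c' : F} {hc : c + c ^ q = 0} {hc' : c' + c' ^ q = 0} (e : c = c') :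
    R.up c hc = R.up c' hc' := by subst e; rfl

theorem up_mul {a b : F} (ha : a + a ^ q = 0) (hb : b + b ^ q = 0) :
    R.up a ha * R.up b hb = R.up (a + b) (skew_add R.hF ha hb) :=
  Prod.ext (uu_mul R.hF ha hb) (R.u_add a b ha hb).symm

theorem u_zero : R.u 0 = 1 := by
  have := R.u_add 0 0 (skew_zero R.hF) (skew_zero R.hF)
  rwa [add_zero, left_eq_mul] at this

theorem up_zero : R.up 0 (skew_zero R.hF) = 1 :=
  Prod.ext (uu_zero R.hF) R.u_zero

theorem hp_up (α : Fˣ) {c : F} (hc : c + c ^ q = 0) :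
    R.hp α * R.up c hc = R.up ((α : F) ^ (q + 1) * c) (R.skew_smul hc) * R.hp α := by
  refine Prod.ext ?_ ?_
  · exact mul_inv_eq_iff_eq_mul.1 (dd_conj_uu R.hF α hc)
  · exact mul_inv_eq_iff_eq_mul.1 (R.h_conj α c hc)

theorem wp_hp (α : Fˣ) : R.wp * R.hp α = R.hp ((α ^ q)⁻¹) * R.wp := by
  refine Prod.ext ?_ ?_
  · show R.wn2 * dd R.hF α = dd R.hF ((α ^ q)⁻¹) * R.wn2
    rw [wn2, ← wn_conj_dd R.hF α, mul_assoc (wn R.hF) _ _, mul_assoc (wn R.hF * _) _ _,
      ← mul_assoc (wn R.hF) (wn R.hF), wn_mul_self, one_mul, mul_assoc, ← map_mul, ← map_mul,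
      mul_comm]
  · exact mul_inv_eq_iff_eq_mul.1 (R.w_h α)

theorem pow_q_inv_inv (α : Fˣ) : (((α ^ q)⁻¹) ^ q)⁻¹ = α := by
  refine Units.ext ?_
  simp [inv_pow, pow_q_pow_q R.hF]

theorem hp_wp (α : Fˣ) : R.hp α * R.wp = R.wp * R.hp ((α ^ q)⁻¹) := by
  rw [R.wp_hp, R.pow_q_inv_inv]

theorem wp_sq : R.wp * R.wp = R.hp (-1) := by
  refine Prod.ext ?_ R.w_sq
  obtain ⟨w0, w1, w2, w3⟩ := R.wn2_entries
  obtain ⟨n0, n1, n2, n3⟩ := dd_entries R.hF (q := q) (-1)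
  show R.wn2 * R.wn2 = dd R.hF (-1)
  apply ext4 <;> simp [w0, w1, w2, w3, n0, n1, n2, n3, R.s_ne, neg_pow_q R.hF]

theorem wp_inv : R.wp⁻¹ = R.wp * R.hp (-1) := by
  refine inv_eq_of_mul_eq_one_right ?_
  rw [← mul_assoc, R.wp_sq, ← map_mul]
  simp

theorem rel_pair {c : F} (hc : c + c ^ q = 0) (hc0 : c ≠ 0) :
    R.wp * R.up c hc = R.up (-(R.s ^ 2 / c)) (R.skew_aa hc) *
      R.hp (Units.mk0 (R.s / c) (div_ne_zero R.s_ne hc0)) * R.wp *
      R.up (-(R.s ^ 2 / c)) (R.skew_aa hc) * R.wp := by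
  refine Prod.ext ?_ ?_
  · obtain ⟨w0, w1, w2, w3⟩ := R.wn2_entries
    obtain ⟨d0, d1, d2, d3⟩ :=
      dd_entries R.hF (q := q) (Units.mk0 (R.s / c) (div_ne_zero R.s_ne hc0))
    have hs : R.s ^ q = -R.s := by linear_combination R.s_skew
    have hc' : c ^ q = -c := by linear_combination hc
    show R.wn2 * uu R.hF c hc = uu R.hF _ (R.skew_aa hc) * dd R.hF _ * R.wn2 *
      uu R.hF _ (R.skew_aa hc) * R.wn2
    have hd : ((R.s / c) ^ q)⁻¹ = c / R.s := by
      rw [div_pow, hs, hc']; simp [neg_div_neg_eq]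
    have := R.s_ne
    apply ext4 <;> simp [w0, w1, w2, w3, d0, d1, d2, d3, hd] <;> field_simp <;>
      first | ring1 | simp
  · exact mul_inv_eq_iff_eq_mul.1 (R.rel c hc hc0)

/-- The two normal forms. -/
def NF (x : U2 F q × G) : Prop :=
  ∃ (c : F) (hc : c + c ^ q = 0) (α : Fˣ), x = R.up c hc * R.hp α ∨
    ∃ (c' : F) (hc' : c' + c' ^ q = 0), x = R.up c hc * R.wp * R.up c' hc' * R.hp α

theorem nf_up {a : F} (ha : a + a ^ q = 0) {x : U2 F q × G} (hx : R.NF x) :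
    R.NF (R.up a ha * x) := by
  obtain ⟨c, hc, α, e⟩ := hx
  refine ⟨a + c, skew_add R.hF ha hc, α, ?_⟩
  rcases e with rfl | ⟨c', hc', rfl⟩
  · exact Or.inl (by rw [← mul_assoc, R.up_mul])
  · exact Or.inr ⟨c', hc', by simp only [← mul_assoc, R.up_mul]⟩

theorem nf_hp (β : Fˣ) {x : U2 F q × G} (hx : R.NF x) : R.NF (R.hp β * x) := by
  obtain ⟨c, hc, α, e⟩ := hx
  rcases e with rfl | ⟨c', hc', rfl⟩
  · exact ⟨_, R.skew_smul (β := (β : F)) hc, β * α, Or.inl (by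
      rw [← mul_assoc, R.hp_up, mul_assoc, ← map_mul])⟩
  · refine ⟨_, R.skew_smul (β := (β : F)) hc, (β ^ q)⁻¹ * α, Or.inr
      ⟨_, R.skew_smul (β := (((β ^ q)⁻¹ : Fˣ) : F)) hc', ?_⟩⟩
    simp only [← mul_assoc]
    rw [R.hp_up, mul_assoc (R.up _ _) (R.hp β), R.hp_wp, ← mul_assoc,
      mul_assoc _ (R.hp _) (R.up c' hc'), R.hp_up, ← mul_assoc, mul_assoc _ (R.hp _) (R.hp α),
      ← map_mul]

theorem nf_wp {x : U2 F q × G} (hx : R.NF x) : R.NF (R.wp * x) := by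
  obtain ⟨c, hc, α, e⟩ := hx
  rcases e with rfl | ⟨c', hc', rfl⟩
  · exact ⟨0, skew_zero R.hF, α, Or.inr ⟨c, hc, by rw [R.up_zero, one_mul, ← mul_assoc]⟩⟩
  · have hneg : (((-1 : Fˣ) : F)) ^ (q + 1) = 1 := by
      rw [Units.val_neg, Units.val_one, pow_succ, neg_pow_q R.hF, one_pow]; ring
    by_cases hc0 : c = 0
    · refine ⟨_, R.skew_smul (β := ((-1 : Fˣ) : F)) hc', -1 * α, Or.inl ?_⟩
      rw [R.up_congr (hc' := skew_zero R.hF) hc0, R.up_zero, one_mul]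
      simp only [← mul_assoc]
      rw [R.wp_sq, R.hp_up, mul_assoc, ← map_mul]
    · set a := -(R.s ^ 2 / c)
      set β := Units.mk0 (R.s / c) (div_ne_zero R.s_ne hc0)
      have e1 : R.hp (-1) * R.up c' hc' = R.up c' hc' * R.hp (-1) := by
        rw [R.hp_up]
        exact congrArg (· * R.hp (-1)) (R.up_congr (by rw [hneg, one_mul]))
      have e : R.wp * (R.up c hc * R.wp * R.up c' hc' * R.hp α) =
          R.up a (R.skew_aa hc) * (R.hp β * (R.up 0 (skew_zero R.hF) * R.wp *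
            R.up (a + c') (skew_add R.hF (R.skew_aa hc) hc') * R.hp (-1 * α))) := by
        calc R.wp * (R.up c hc * R.wp * R.up c' hc' * R.hp α)
            = R.wp * R.up c hc * R.wp * R.up c' hc' * R.hp α := by simp only [mul_assoc]
          _ = R.up a (R.skew_aa hc) * R.hp β * R.wp * R.up a (R.skew_aa hc) * (R.wp * R.wp) *
              R.up c' hc' * R.hp α := by rw [R.rel_pair hc hc0]; simp only [mul_assoc]; rfl
          _ = R.up a (R.skew_aa hc) * R.hp β * R.wp * R.up a (R.skew_aa hc) *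
              (R.hp (-1) * R.up c' hc') * R.hp α := by rw [R.wp_sq]; simp only [mul_assoc]
          _ = R.up a (R.skew_aa hc) * R.hp β * R.wp * (R.up a (R.skew_aa hc) *
              R.up c' hc') * (R.hp (-1) * R.hp α) := by rw [e1]; simp only [mul_assoc]
          _ = _ := by
            rw [R.up_mul, R.up_zero, one_mul, ← map_mul]
            simp only [mul_assoc]
      rw [e]
      exact R.nf_up _ (R.nf_hp _ ⟨0, skew_zero R.hF, _, Or.inr ⟨_, _, rfl⟩⟩)

/-- The graph of the homomorphism. -/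
noncomputable def graph : Subgroup (U2 F q × G) :=
  closure ({x | ∃ (c : F) (hc : c + c ^ q = 0), x = R.up c hc} ∪ (R.hp.range : Set (U2 F q × G)) ∪
    {R.wp})

theorem nf_graph {x : U2 F q × G} (hx : x ∈ R.graph) : R.NF x := by
  induction hx using Subgroup.closure_induction_left with
  | one => exact ⟨0, skew_zero R.hF, 1, Or.inl (by simp [R.up_zero])⟩
  | mul_left a ha y _ ih =>
    rcases ha with (⟨c, hc, rfl⟩ | ⟨α, rfl⟩) | ha
    · exact R.nf_up hc ih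
    · exact R.nf_hp α ih
    · rw [Set.mem_singleton_iff.1 ha]; exact R.nf_wp ih
  | inv_mul_cancel a ha y _ ih =>
    rcases ha with (⟨c, hc, rfl⟩ | ⟨α, rfl⟩) | ha
    · have : (R.up c hc)⁻¹ = R.up (-c) (skew_neg R.hF hc) := inv_eq_of_mul_eq_one_right (by
        rw [R.up_mul, ← R.up_zero]; exact R.up_congr (add_neg_cancel c))
      rw [this]
      exact R.nf_up _ ih
    · rw [← map_inv]; exact R.nf_hp _ ih
    · rw [Set.mem_singleton_iff.1 ha, R.wp_inv, mul_assoc]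
      exact R.nf_wp (R.nf_hp _ ih)

theorem up_mem {c : F} (hc : c + c ^ q = 0) : R.up c hc ∈ R.graph :=
  subset_closure (Or.inl (Or.inl ⟨c, hc, rfl⟩))

theorem hp_mem (α : Fˣ) : R.hp α ∈ R.graph := subset_closure (Or.inl (Or.inr ⟨α, rfl⟩))

theorem wp_mem : R.wp ∈ R.graph := subset_closure (Or.inr rfl)

/-- An element of the cell is not upper triangular. -/
theorem e10_cell {c c' : F} (hc : c + c ^ q = 0) (hc' : c' + c' ^ q = 0) (α : Fˣ) :
    e10 (R.up c hc * R.wp * R.up c' hc' * R.hp α).1 ≠ 0 := by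
  obtain ⟨w0, w1, w2, w3⟩ := R.wn2_entries
  obtain ⟨d0, d1, d2, d3⟩ := dd_entries R.hF (q := q) α
  show e10 (uu R.hF c hc * R.wn2 * uu R.hF c' hc' * dd R.hF α) ≠ 0
  simp [w0, w1, w2, w3, d0, d2, R.s_ne]

theorem graph_bijective :
    Function.Bijective ((MonoidHom.fst (U2 F q) G).comp R.graph.subtype) := by
  refine ⟨(injective_iff_map_eq_one _).2 fun x hx => Subtype.ext ?_, fun g => ?_⟩
  · have hx' : x.1.1 = 1 := hx
    obtain ⟨c, hc, α, e⟩ := R.nf_graph x.2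
    rcases e with e | ⟨c', hc', e⟩
    · rw [e] at hx'
      obtain ⟨d0, d1, d2, d3⟩ := dd_entries R.hF (q := q) α
      have h0 := congrArg e00 hx'
      have h1 := congrArg e01 hx'
      change e00 (uu R.hF c hc * dd R.hF α) = _ at h0
      change e01 (uu R.hF c hc * dd R.hF α) = _ at h1
      simp [d0, d1, d2, d3] at h0 h1
      rw [e, R.up_congr (hc' := skew_zero R.hF) h1, R.up_zero, one_mul, h0, map_one]
      rfl
    · exact absurd (by rw [← e, hx', e10_one]) (R.e10_cell hc hc' α)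
  · by_cases hg : e10 g = 0
    · obtain ⟨c, hc, α, rfl⟩ := upper R.hF g hg
      exact ⟨⟨_, mul_mem (R.up_mem hc) (R.hp_mem α)⟩, rfl⟩
    · obtain ⟨hc, c', hc', α, e⟩ := bruhat R.hF g hg
      refine ⟨⟨_, mul_mem (mul_mem (mul_mem (R.up_mem hc)
        (mul_mem R.wp_mem (R.hp_mem (Units.mk0 R.s R.s_ne)))) (R.up_mem hc')) (R.hp_mem α)⟩, ?_⟩
      show uu R.hF _ hc * (R.wn2 * dd R.hF _) * uu R.hF c' hc' * dd R.hF α = g
      rw [wn2, mul_assoc (wn R.hF), ← map_mul, inv_mul_cancel, map_one, mul_one, ← e]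

/-- The homomorphism on `U₂`. -/
noncomputable def π : U2 F q →* G :=
  ((MonoidHom.snd (U2 F q) G).comp R.graph.subtype).comp
    (MulEquiv.ofBijective _ R.graph_bijective).symm.toMonoidHom

theorem π_fst {x : U2 F q × G} (hx : x ∈ R.graph) : R.π x.1 = x.2 := by
  have : (MulEquiv.ofBijective _ R.graph_bijective).symm x.1 = ⟨x, hx⟩ :=
    (MulEquiv.symm_apply_eq _).2 rfl
  show (((MulEquiv.ofBijective _ R.graph_bijective).symm x.1 : R.graph) : U2 F q × G).2 = x.2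
  rw [this]

theorem π_uu {c : F} (hc : c + c ^ q = 0) : R.π (uu R.hF c hc) = R.u c := R.π_fst (R.up_mem hc)

theorem π_dd (α : Fˣ) : R.π (dd R.hF α) = R.h α := R.π_fst (R.hp_mem α)

theorem π_wn2 : R.π R.wn2 = R.w := R.π_fst R.wp_mem

theorem π_wn : R.π (wn R.hF) = R.w * R.h (Units.mk0 R.s R.s_ne) := by
  rw [← R.π_wn2, ← R.π_dd, ← map_mul, wn2, mul_assoc, ← map_mul, inv_mul_cancel, map_one, mul_one]

theorem π_range : R.π.range = R.gens := by
  have e : R.π.range = R.graph.map (MonoidHom.snd _ _) := by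
    ext x
    constructor
    · rintro ⟨g, rfl⟩
      exact ⟨_, ((MulEquiv.ofBijective _ R.graph_bijective).symm g).2, rfl⟩
    · rintro ⟨y, hy, rfl⟩
      exact ⟨y.1, R.π_fst hy⟩
  rw [e, graph, MonoidHom.map_closure, gens]
  congr 1
  rw [Set.image_union, Set.image_union, Set.image_singleton]
  congr 1
  congr 1
  · ext x
    constructor
    · rintro ⟨_, ⟨c, hc, rfl⟩, rfl⟩; exact ⟨c, hc, rfl⟩
    · rintro ⟨c, hc, rfl⟩; exact ⟨_, ⟨c, hc, rfl⟩, rfl⟩
  · ext x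
    constructor
    · rintro ⟨_, ⟨α, rfl⟩, rfl⟩; exact ⟨α, rfl⟩
    · rintro ⟨α, rfl⟩; exact ⟨_, ⟨α, rfl⟩, rfl⟩

theorem π_ker {g : U2 F q} (hg : g ∈ R.π.ker) :
    ∃ α : Fˣ, α ∈ R.h.ker ∧ α ^ (q + 1) = 1 ∧ g = dd R.hF α := by
  obtain ⟨⟨x, hx⟩, rfl⟩ := R.graph_bijective.2 g
  change R.π x.1 = 1 at hg
  rw [R.π_fst hx] at hg
  show ∃ α : Fˣ, α ∈ R.h.ker ∧ α ^ (q + 1) = 1 ∧ x.1 = dd R.hF α
  obtain ⟨c, hc, α, e | ⟨c', hc', e⟩⟩ := R.nf_graph hx
  · rw [e] at hg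
    obtain ⟨h0, h1⟩ := R.ker c α hc hg
    rw [R.up_congr (hc' := skew_zero R.hF) h0, R.up_zero, one_mul] at e
    rw [R.up_congr (hc' := skew_zero R.hF) h0, R.up_zero, one_mul] at hg
    exact ⟨α, hg, h1, by rw [e]; rfl⟩
  · rw [e] at hg
    exact absurd hg (R.cell c c' α hc hc')

theorem π_ker_scalar : ∀ g ∈ R.π.ker, e01 g = 0 ∧ e10 g = 0 ∧ e00 g = e11 g := by
  intro g hg
  obtain ⟨α, -, h1, rfl⟩ := R.π_ker hg
  obtain ⟨d0, d1, d2, d3⟩ := dd_entries R.hF (q := q) α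
  refine ⟨d1, d2, ?_⟩
  rw [d0, d3]
  refine eq_inv_of_mul_eq_one_left ?_
  rw [← pow_succ', ← Units.val_pow_eq_pow_val, h1, Units.val_one]

theorem card_π_ker : Nat.card R.π.ker = Nat.card R.h.ker := by
  refine (Nat.card_congr (Equiv.ofBijective (fun α : R.h.ker => (⟨dd R.hF α.1, by
    rw [MonoidHom.mem_ker, R.π_dd]; exact α.2⟩ : R.π.ker)) ⟨?_, ?_⟩)).symm
  · intro α β e
    exact Subtype.ext (dd_injective R.hF (congrArg Subtype.val e))
  · rintro ⟨g, hg⟩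
    obtain ⟨α, hα, -, rfl⟩ := R.π_ker hg
    exact ⟨⟨α, hα⟩, rfl⟩

/-- All properties of the homomorphism. -/
theorem exists_pi : ∃ π : U2 F q →* G, (∀ c (hc : c + c ^ q = 0), π (uu R.hF c hc) = R.u c) ∧
    (∀ α, π (dd R.hF α) = R.h α) ∧ π (wn R.hF) = R.w * R.h (Units.mk0 R.s R.s_ne) ∧
    π.range = R.gens ∧ (∀ g ∈ π.ker, e01 g = 0 ∧ e10 g = 0 ∧ e00 g = e11 g) ∧
    Nat.card π.ker = Nat.card R.h.ker :=
  ⟨R.π, fun _ hc => R.π_uu hc, R.π_dd, R.π_wn, R.π_range, R.π_ker_scalar, R.card_π_ker⟩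

theorem two_ne : (2 : F) ≠ 0 := by
  obtain ⟨p, m, hp, hchar, hqp, hm⟩ := exists_prime_pow R.hF
  intro h
  have h' : ((2 : ℕ) : F) = 0 := by exact_mod_cast h
  have hp2 : p = 2 :=
    (Nat.prime_dvd_prime_iff_eq hp Nat.prime_two).1 ((CharP.cast_eq_zero_iff F p 2).1 h')
  have := R.hodd
  rw [hqp, hp2, Nat.odd_pow_iff (by omega)] at this
  exact absurd this (by decide)

theorem card_gens : Nat.card R.gens * Nat.card R.h.ker = q * ((q + 1) * (q ^ 2 - 1)) := by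
  rw [← R.π_range, ← R.card_π_ker, ← card_U2 R.hF R.two_ne,
    Subgroup.card_eq_card_quotient_mul_card_subgroup R.π.ker,
    Nat.card_congr (QuotientGroup.quotientKerEquivRange R.π).toEquiv]

theorem gens_le : R.gens ≤ centralizer ({R.h (-1)} : Set G) := by
  rw [← R.π_range]
  rintro _ ⟨g, rfl⟩
  rw [mem_centralizer_singleton_iff, ← R.π_dd, ← map_mul, ← map_mul]
  congr 1
  obtain ⟨n0, n1, n2, n3⟩ := negOne_entries R.hF (q := q)
  show g * negOne R.hF = negOne R.hF * g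
  apply ext4 <;> simp [n0, n1, n2, n3]

/-- The recognition. -/
theorem iso [IsSimpleGroup G] (hrange : centralizer ({R.h (-1)} : Set G) ≤ R.gens)
    (hcard : Nat.card G * Nat.card R.h.ker = q ^ 3 * (q ^ 3 + 1) * (q ^ 2 - 1)) :
    Nonempty (G ≃* Cfsg.PSU 3 F q) :=
  iso_PSU (D := ⟨⟨R.hF, R.hodd, R.π, R.h (-1), R.π_dd (-1),
    R.π_range.trans (le_antisymm R.gens_le hrange), R.π_ker_scalar,
    by rw [R.card_π_ker]; exact R.ker_odd⟩, by rw [R.card_π_ker]; exact hcard⟩)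

/-- The recognition, with the centraliser given by its order. -/
theorem iso_of_card [IsSimpleGroup G]
    (hC : Nat.card (centralizer ({R.h (-1)} : Set G)) * Nat.card R.h.ker =
      q * ((q + 1) * (q ^ 2 - 1)))
    (hcard : Nat.card G * Nat.card R.h.ker = q ^ 3 * (q ^ 3 + 1) * (q ^ 2 - 1)) :
    Nonempty (G ≃* Cfsg.PSU 3 F q) := by
  refine R.iso (Subgroup.eq_of_le_of_card_ge R.gens_le ?_).ge hcard
  exact le_of_eq (Nat.eq_of_mul_eq_mul_right Nat.card_pos (hC.trans R.card_gens.symm))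

end Root

end Cfsg.Agent.OddUnitary
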